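import Groth.Agent.SubMod72.ToModules

/-! The subsheaf attached to a monomorphism into the restriction to an open. -/

set_option autoImplicit false
set_option backward.isDefEq.respectTransparency.types false

noncomputable section

universe u

open CategoryTheory Limits AlgebraicGeometry TopologicalSpace Opposite
open Groth.Agent.QC70

namespace Groth.Agent.SubMod72

variable {X : Scheme.{u}} {F : X.Modules} (U : X.Opens) {G : (U : Scheme.{u}).Modules}
  (i : G ⟶ F.restrict U.ι)

/-- Sections of `G` seen as sections of `F`. -/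
def secMap (T : (U : Scheme.{u}).Opens) (y : Γ(G, T)) : Γ(F, U.ι ''ᵁ T) :=
  (F.restrictAppIso U.ι T).hom (i.app T y)

theorem secMap_res {T T' : (U : Scheme.{u}).Opens} (h : T' ≤ T) (y : Γ(G, T)) :
    secMap U i T' (res G h y) = res F (U.ι.image_mono h) (secMap U i T y) := by
  simp only [secMap]
  rw [app_res]
  rfl

theorem secMap_smul (T : (U : Scheme.{u}).Opens) (a : Γ(U, T)) (y : Γ(G, T)) :
    secMap U i T (a • y) = (U.ι.appIso T).inv a • secMap U i T y := by
  simp only [secMap]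
  rw [Scheme.Modules.Hom.app_smul]
  exact Scheme.Modules.smul_restrictAppIso_hom_apply U.ι F T a _

theorem secMap_injective [Mono i] (T : (U : Scheme.{u}).Opens) :
    Function.Injective (secMap U i T) := fun y z h => by
  refine app_injective_of_mono i T ?_
  exact (ConcreteCategory.bijective_of_isIso (F.restrictAppIso U.ι T).hom).1 h

theorem secMap_add (T : (U : Scheme.{u}).Opens) (y z : Γ(G, T)) :
    secMap U i T (y + z) = secMap U i T y + secMap U i T z := by
  simp only [secMap, map_add]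

theorem secMap_zero (T : (U : Scheme.{u}).Opens) : secMap U i T 0 = 0 := by
  simp only [secMap, map_zero]

theorem image_preimage_le (W : X.Opens) : U.ι ''ᵁ (U.ι ⁻¹ᵁ W) ≤ W := U.ι.image_preimage_le W

theorem image_le (T : (U : Scheme.{u}).Opens) : U.ι ''ᵁ T ≤ U :=
  (U.ι.image_mono le_top).trans (by simp)

variable [Mono i]

/-- The subsheaf of `F` attached to `i`; no condition outside `U`. -/
def ofMono : Sub F where
  carrier W :=
    { carrier := {x | ∃ y : Γ(G, U.ι ⁻¹ᵁ W), secMap U i _ y = res F (image_preimage_le U W) x}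
      add_mem' := by
        rintro x x' ⟨y, hy⟩ ⟨y', hy'⟩
        exact ⟨y + y', by rw [secMap_add, hy, hy', res_add]⟩
      zero_mem' := ⟨0, by rw [secMap_zero, res_zero]⟩
      smul_mem' := by
        rintro a x ⟨y, hy⟩
        exact ⟨(U.ι.appIso _).hom (resO X (image_preimage_le U W) a) • y, by
          rw [secMap_smul, hy, res_smul, Iso.hom_inv_id_apply]⟩ }
  res_mem {V W} h x := by
    rintro ⟨y, hy⟩
    refine ⟨res G (U.ι.preimage_mono h) y, ?_⟩
    rw [secMap_res, hy, res_res, res_res]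
  local_mem {W} x hx := by
    choose V hV hpV y hy using fun p : U.ι ⁻¹ᵁ W => hx (U.ι p.1) p.2
    have hle : ∀ p, U.ι ⁻¹ᵁ V p ≤ U.ι ⁻¹ᵁ W := fun p => U.ι.preimage_mono (hV p)
    obtain ⟨Y, hY⟩ := exists_glue G (fun p => U.ι ⁻¹ᵁ V p) hle
      (fun q hq => Opens.mem_iSup.mpr ⟨⟨q, hq⟩, hpV ⟨q, hq⟩⟩) y (fun p q => by
        refine secMap_injective U i _ ?_
        rw [secMap_res, secMap_res, hy, hy, res_res, res_res, res_res, res_res])
    refine ⟨Y, section_ext F _ _ ?_⟩
    rintro _ ⟨q, hq, rfl⟩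
    refine ⟨U.ι ''ᵁ (U.ι ⁻¹ᵁ V ⟨q, hq⟩), U.ι.image_mono (hle _), ⟨q, hpV ⟨q, hq⟩, rfl⟩, ?_⟩
    rw [← secMap_res U i (hle _), hY, hy, res_res, res_res]

theorem fg_ofMono [G.IsFiniteType] : FG U (ofMono U i) := by
  intro p hp
  obtain ⟨T, ι', _, s, hpT, hs⟩ := exists_locGenBy G (⟨p, hp⟩ : (U : Scheme.{u}))
  refine ⟨U.ι ''ᵁ T, Set.range fun j => secMap U i T (s j), image_le U T, ⟨_, hpT, rfl⟩,
    Set.finite_range _, fun W hW => ?_⟩
  have hWT : U.ι ⁻¹ᵁ W ≤ T := (U.ι.preimage_mono hW).trans (U.ι.preimage_image_eq T).le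
  have hWU : W ≤ U.ι ''ᵁ (U.ι ⁻¹ᵁ W) := by
    intro q hq
    exact ⟨⟨q, (hW.trans (image_le U T)) hq⟩, hq, rfl⟩
  ext x
  constructor
  · rintro ⟨y, hy⟩ q hq _
    obtain ⟨T', h₁, h₂, a, hqT', e⟩ :=
      hs _ hWT y (⟨q, (hW.trans (image_le U T)) hq⟩ : (U : Scheme.{u})) hq
    refine ⟨U.ι ''ᵁ T', (U.ι.image_mono h₁).trans (image_preimage_le U W), U.ι.image_mono h₂,
      ⟨_, hqT', rfl⟩, ?_⟩
    rw [← res_res (image_preimage_le U W) (U.ι.image_mono h₁), ← hy, ← secMap_res U i h₁, e]
    have : ∀ t : Finset ι', secMap U i T' (∑ j ∈ t, a j • res G h₂ (s j)) ∈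
        Submodule.span Γ(X, U.ι ''ᵁ T')
          (res F (U.ι.image_mono h₂) '' Set.range fun j => secMap U i T (s j)) := by
      classical
      intro t
      induction t using Finset.induction_on with
      | empty => rw [Finset.sum_empty, secMap_zero]; exact zero_mem _
      | insert j t hj ih =>
        rw [Finset.sum_insert hj, secMap_add, secMap_smul, secMap_res]
        exact add_mem (Submodule.smul_mem _ _ (Submodule.subset_span ⟨_, ⟨j, rfl⟩, rfl⟩)) ih
    exact this _
  · intro hx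
    refine span_le_of_forall_mem hW (fun t ht => ?_) hx
    obtain ⟨j, rfl⟩ := ht
    exact ⟨res G hWT (s j), by rw [secMap_res, res_res]⟩

/-- If `Q` agrees with `ofMono U i` on `U` then `Q|_U ≅ G`. -/
theorem exists_restrict_iso {Q : Sub F} (hQ : AgreeOn U Q (ofMono U i)) :
    ∃ e : (toMod Q).restrict U.ι ≅ G,
      e.hom ≫ i = (Scheme.Modules.restrictFunctor U.ι).map (toModι Q) := by
  let k := (Scheme.Modules.restrictFunctor U.ι).map (toModι Q)
  have hk : Mono k := mono_of_app_injective _ fun T => app_injective_of_mono (toModι Q) (U.ι ''ᵁ T)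
  have himg : ∀ T : (U : Scheme.{u}).Opens, U.ι ⁻¹ᵁ (U.ι ''ᵁ T) = T := U.ι.preimage_image_eq
  have hGQ : ∀ (T : (U : Scheme.{u}).Opens) (y : Γ(G, T)),
      secMap U i T y ∈ Q.carrier (U.ι ''ᵁ T) := by
    intro T y
    rw [hQ _ (image_le U T)]
    exact ⟨res G (himg T).le y, by rw [secMap_res]⟩
  have hQG : ∀ (T : (U : Scheme.{u}).Opens) (x : Γ(F, U.ι ''ᵁ T)), x ∈ Q.carrier (U.ι ''ᵁ T) →
      ∃ y : Γ(G, T), secMap U i T y = x := by
    intro T x hx
    rw [hQ _ (image_le U T)] at hx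
    obtain ⟨y, hy⟩ := hx
    refine ⟨res G (himg T).ge y, ?_⟩
    rw [secMap_res, hy, res_res, res_self]
  have h1 : k ≫ cokernel.π i = 0 := by
    ext T x
    obtain ⟨y, hy⟩ := hQG T ((toModι Q).app (U.ι ''ᵁ T) x) ((mem_iff_exists Q _).mpr ⟨x, rfl⟩)
    have h' : k.app T x = i.app T y :=
      (ConcreteCategory.bijective_of_isIso (F.restrictAppIso U.ι T).hom).1 hy.symm
    show (cokernel.π i).app T (k.app T x) = 0
    rw [h']
    exact congr((Scheme.Modules.Hom.app $(cokernel.condition i) T) y)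
  have h2 : i ≫ cokernel.π k = 0 := by
    ext T y
    obtain ⟨z, hz⟩ := (mem_iff_exists Q _).mp (hGQ T y)
    have h' : k.app T (show Γ((toMod Q).restrict U.ι, T) from z) = i.app T y :=
      (ConcreteCategory.bijective_of_isIso (F.restrictAppIso U.ι T).hom).1 hz
    show (cokernel.π k).app T (i.app T y) = 0
    rw [← h']
    exact congr((Scheme.Modules.Hom.app $(cokernel.condition k) T)
      (show Γ((toMod Q).restrict U.ι, T) from z))
  refine ⟨⟨Abelian.monoLift i k h1, Abelian.monoLift k i h2, ?_, ?_⟩, Abelian.monoLift_comp i k h1⟩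
  · rw [← cancel_mono k, Category.assoc, Abelian.monoLift_comp, Abelian.monoLift_comp,
      Category.id_comp]
  · rw [← cancel_mono i, Category.assoc, Abelian.monoLift_comp, Abelian.monoLift_comp,
      Category.id_comp]

end Groth.Agent.SubMod72
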