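import Groth.Agent.SubMod72.Extend
import Groth.Agent.SubMod72.OfMono

/-! Extension theorems for finite type quasi-coherent submodules. -/

set_option autoImplicit false
set_option backward.isDefEq.respectTransparency.types false

noncomputable section

universe u

open CategoryTheory Limits AlgebraicGeometry TopologicalSpace Opposite
open Groth.Agent.QC70

namespace Groth.Agent.SubMod72

variable {X : Scheme.{u}} {F : X.Modules} {U : X.Opens} {G : (U : Scheme.{u}).Modules}
  (i : G ⟶ F.restrict U.ι) [Mono i]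

theorem exists_submodule_of_sub [F.IsQuasicoherent] {Q : Sub F} (hQ : FG ⊤ Q)
    (hQP : AgreeOn U Q (ofMono U i)) :
    ∃ (G' : X.Modules) (i' : G' ⟶ F) (e : G'.restrict U.ι ≅ G), Mono i' ∧ G'.IsQuasicoherent ∧
      G'.IsFiniteType ∧ e.hom ≫ i = (Scheme.Modules.restrictFunctor U.ι).map i' := by
  obtain ⟨e, he⟩ := exists_restrict_iso U i hQP
  exact ⟨toMod Q, toModι Q, e, inferInstance, (isQuasicoherent_isFiniteType_toMod hQ).1,
    (isQuasicoherent_isFiniteType_toMod hQ).2, he⟩

theorem quasiCompact_opensι (hX : ∀ x : X, ∃ N : X.Opens, x ∈ N ∧ NoetherianSpace (N : Set X))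
    (U : X.Opens) : QuasiCompact U.ι := by
  rw [quasiCompact_iff_forall_isAffineOpen]
  intro V hV
  rw [U.ι.isOpenEmbedding.toIsEmbedding.isCompact_iff]
  choose N hxN hN using hX
  obtain ⟨t, ht⟩ := hV.isCompact.elim_finite_subcover (fun x => (N x : Set X)) (fun x => (N x).2)
    (fun x _ => Set.mem_iUnion.mpr ⟨x, hxN x⟩)
  have : NoetherianSpace (⋃ x ∈ t, (N x : Set X) : Set X) := by
    have h1 := @NoetherianSpace.iUnion X _ t (fun x => (N x.1 : Set X)) _ (fun x => hN x.1)
    have h2 : (⋃ x ∈ t, (N x : Set X)) = ⋃ x : t, (N x.1 : Set X) := by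
      simp only [Set.iUnion_subtype]
    rw [h2]; exact h1
  have h1 := (NoetherianSpace.isCompact
    (Subtype.val ⁻¹' (U.ι '' (U.ι ⁻¹ᵁ V : Set U)) : Set (⋃ x ∈ t, (N x : Set X) : Set X))).image
      continuous_subtype_val
  rwa [Subtype.image_preimage_coe, Set.inter_eq_right.mpr] at h1
  rintro _ ⟨x, hx, rfl⟩
  exact ht hx

theorem exists_finiteType_extension (hX : ∀ x : X, ∃ N : X.Opens, x ∈ N ∧ NoetherianSpace (N : Set X))
    (G : (U : Scheme.{u}).Modules) [G.IsQuasicoherent] [G.IsFiniteType] :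
    ∃ G' : X.Modules, G'.IsQuasicoherent ∧ G'.IsFiniteType ∧ Nonempty (G'.restrict U.ι ≅ G) := by
  have := quasiCompact_opensι hX U
  have := QCqs72.isQuasicoherent_pushforward G U.ι
  let i : G ⟶ ((Scheme.Modules.pushforward U.ι).obj G).restrict U.ι :=
    (Scheme.Modules.restrictFunctorAdjCounitIso U.ι).inv.app G
  obtain ⟨Q, hQ, hQP⟩ := exists_extension_noetherian hX (fg_ofMono U i)
  obtain ⟨G', i', e, -, h1, h2, -⟩ := exists_submodule_of_sub i hQ hQP
  exact ⟨G', h1, h2, ⟨e⟩⟩

end Groth.Agent.SubMod72
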