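import Groth.Agent.SubMod72.Sub
import Mathlib.Order.Zorn

/-! Extension of finitely generated subsheaves of a quasi-coherent module. -/

set_option autoImplicit false
set_option backward.isDefEq.respectTransparency.types false

noncomputable section

universe u v

open CategoryTheory AlgebraicGeometry TopologicalSpace Opposite
open Groth.Agent.QC70

namespace Groth.Agent.SubMod72

variable {X : Scheme.{u}} {F : X.Modules}

/-- Subsheaves agreeing on overlaps glue. -/
theorem exists_glueSub {ι : Type*} (W : ι → X.Opens) (P : ι → Sub F)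
    (h : ∀ i j, AgreeOn (W i ⊓ W j) (P i) (P j)) :
    ∃ Q : Sub F, ∀ i, AgreeOn (W i) Q (P i) := by
  let Q : Sub F :=
    { carrier := fun T =>
        { carrier := {x | ∀ i, res F (inf_le_left : T ⊓ W i ≤ T) x ∈ (P i).carrier (T ⊓ W i)}
          add_mem' := fun {x y} hx hy i => by rw [res_add]; exact add_mem (hx i) (hy i)
          zero_mem' := fun i => by rw [res_zero]; exact zero_mem _
          smul_mem' := fun a x hx i => by rw [res_smul]; exact Submodule.smul_mem _ _ (hx i) }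
      res_mem := fun {T' T} hle x hx i => by
        have := (P i).res_mem (inf_le_inf_right (W i) hle) (hx i)
        rw [res_res] at this ⊢
        exact this
      local_mem := fun {T} x hx i => (P i).local_mem _ fun p hp => by
        obtain ⟨T', hle, hp', hx'⟩ := hx p hp.1
        have := hx' i
        refine ⟨T' ⊓ W i, inf_le_inf_right _ hle, ⟨hp', hp.2⟩, ?_⟩
        rw [res_res] at this ⊢
        exact this }
  refine ⟨Q, fun i T hT => ?_⟩
  ext x
  constructor
  · intro hx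
    have := (P i).res_mem (le_inf le_rfl hT) (hx i)
    rwa [res_res, res_self] at this
  · intro hx j
    rw [← h i j (T ⊓ W j) (inf_le_inf_right _ hT)]
    exact (P i).res_mem _ hx

variable [F.IsQuasicoherent]

/-- Saturation: if a multiple condition holds on `D(f)`, it holds everywhere after multiplying. -/
theorem exists_pow_smul_res_mem {U U' : X.Opens} (hU : IsCompact (U : Set X)) (h : U ≤ U')
    {P : Sub F} (hP : FG U P) (f : Γ(X, U')) (t : Γ(F, U'))
    (ht : res F ((inf_le_left : X.basicOpen f ⊓ U ≤ _).trans (X.basicOpen_le f)) t ∈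
      P.carrier (X.basicOpen f ⊓ U)) :
    ∃ k : ℕ, res F h (f ^ k • t) ∈ P.carrier U := by
  classical
  have key : ∀ p : U, ∃ (D : X.Opens), (p : X) ∈ D ∧ D ≤ U ∧
      ∃ (hle : D ≤ U') (k : ℕ), res F hle (f ^ k • t) ∈ P.carrier D := by
    intro p
    obtain ⟨D, S, hD, hpD, hDU, hS, e⟩ := hP.exists_affine p.2 (W := ⊤) trivial
    have hDU' : D ≤ U := hDU.trans inf_le_left
    refine ⟨D, hpD, hDU', hDU'.trans h, ?_⟩
    let g : Γ(X, D) := resO X (hDU'.trans h) f
    have hg : X.basicOpen g ≤ X.basicOpen f ⊓ U := by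
      simp only [g, Scheme.basicOpen_res]
      exact le_inf inf_le_right (inf_le_left.trans hDU')
    have a := P.res_mem hg ht
    rw [res_res, ← res_res (hDU'.trans h) (X.basicOpen_le g)] at a
    obtain ⟨k, hk⟩ := exists_pow_smul_mem_span hD g
      (mem_span_of_mem (hD.basicOpen g) (X.basicOpen_le g) e a)
    refine ⟨k, ?_⟩
    rw [res_pow_smul, e D le_rfl]
    refine mem_locSpan le_rfl ?_
    have := res_mem_span (le_refl D) hk
    rwa [res_self] at this
  choose D hpD hDU hle k hk using key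
  obtain ⟨J, hJ⟩ := hU.elim_finite_subcover (fun p : U => (D p : Set X))
    (fun p => (D p).2) (fun x hx => Set.mem_iUnion.mpr ⟨⟨x, hx⟩, hpD ⟨x, hx⟩⟩)
  refine ⟨J.sup k, P.local_mem _ fun q hq => ?_⟩
  obtain ⟨p, hp, hq'⟩ := Set.mem_iUnion₂.mp (hJ hq)
  refine ⟨D p, hDU p, hq', ?_⟩
  rw [res_res, ← Nat.sub_add_cancel (Finset.le_sup (f := k) hp), pow_smul_add, res_pow_smul]
  exact Submodule.smul_mem _ _ (hk p)

/-- On an affine open, a finitely generated subsheaf over a compact open extends. -/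
theorem exists_finite_generators {V U : X.Opens} (hV : IsAffineOpen V) (h : U ≤ V)
    (hU : IsCompact (U : Set X)) {P : Sub F} (hP : FG U P) :
    ∃ S : Set Γ(F, V), S.Finite ∧ AgreeOn U P (locSpan S) := by
  classical
  have key : ∀ p : U, ∃ (f : Γ(X, V)) (σ : Set Γ(F, X.basicOpen f)), (p : X) ∈ X.basicOpen f ∧
      X.basicOpen f ≤ U ∧ σ.Finite ∧ AgreeOn (X.basicOpen f) P (locSpan σ) := by
    intro p
    obtain ⟨W, S, hW, hpW, hS, e⟩ := hP p p.2
    obtain ⟨f, hf, hpf⟩ := hV.exists_basicOpen_le ⟨(p : X), hpW⟩ (h p.2)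
    exact ⟨f, _, hpf, hf.trans hW, hS.image _, (e.mono hf).trans (locSpan_res hf S)⟩
  choose f σ hpf hfU hσ he using key
  obtain ⟨J, hJ⟩ := hU.elim_finite_subcover (fun p : U => (X.basicOpen (f p) : Set X))
    (fun p => (X.basicOpen (f p)).2) (fun x hx => Set.mem_iUnion.mpr ⟨⟨x, hx⟩, hpf ⟨x, hx⟩⟩)
  have gen : ∀ (p : U) (y : Γ(F, X.basicOpen (f p))), y ∈ σ p →
      ∃ (T : Γ(F, V)) (n : ℕ), res F h T ∈ P.carrier U ∧
        res F (X.basicOpen_le (f p)) T = resO X (X.basicOpen_le (f p)) (f p) ^ n • y := by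
    intro p y hy
    obtain ⟨n, t, ht⟩ := (isLocAt_of_isQuasicoherent F hV).exists_of (f p) y
    obtain ⟨k, hk⟩ := exists_pow_smul_res_mem hU h hP (f p) t (by
      rw [← res_res (X.basicOpen_le (f p)) inf_le_left, ht, he p _ inf_le_left, res_smul]
      exact Submodule.smul_mem _ _ (self_mem_locSpan inf_le_left hy))
    exact ⟨_, k + n, hk, by rw [res_pow_smul, ht, pow_smul_add]⟩
  choose T n hTP hT using gen
  refine ⟨⋃ p ∈ J, ⋃ y : σ p, {T p y y.2}, ?_, ?_⟩
  · refine Set.Finite.biUnion J.finite_toSet fun p _ => ?_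
    have := (hσ p).to_subtype
    exact Set.finite_iUnion fun _ => Set.finite_singleton _
  intro W hW
  ext x
  constructor
  · intro hx q hq _
    obtain ⟨p, hp, hqp⟩ := Set.mem_iUnion₂.mp (hJ (hW hq))
    have hx' := P.res_mem (inf_le_left : W ⊓ X.basicOpen (f p) ≤ W) hx
    rw [he p _ inf_le_right] at hx'
    obtain ⟨W', h₁, h₂, hq', e⟩ := hx' q ⟨hq, hqp⟩ hqp
    refine ⟨W', h₁.trans inf_le_left, h₂.trans (X.basicOpen_le _), hq', ?_⟩
    rw [res_res] at e
    refine Submodule.span_le.mpr ?_ e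
    rintro _ ⟨y, hy, rfl⟩
    have hTy : resO X (h₂.trans (X.basicOpen_le _)) (f p) ^ n p y hy • res F h₂ y =
        res F (h₂.trans (X.basicOpen_le _)) (T p y hy) := by
      rw [← res_res (X.basicOpen_le (f p)) h₂ (T p y hy), hT p y hy, res_pow_smul, resO_resO]
    have hu : IsUnit (resO X (h₂.trans (X.basicOpen_le _)) (f p) ^ n p y hy) := by
      refine IsUnit.pow _ ?_
      have h0 : IsUnit (resO X (X.basicOpen_le (f p)) (f p)) :=
        RingedSpace.isUnit_res_basicOpen _ (f p)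
      have h1 : IsUnit (resO X h₂ (resO X (X.basicOpen_le (f p)) (f p))) :=
        h0.map (X.presheaf.map (homOfLE h₂).op).hom
      rwa [resO_resO] at h1
    rw [SetLike.mem_coe, ← Submodule.smul_mem_iff_of_isUnit _ hu, hTy]
    exact Submodule.subset_span ⟨_, Set.mem_iUnion₂.mpr ⟨p, hp,
      Set.mem_iUnion.mpr ⟨⟨y, hy⟩, rfl⟩⟩, rfl⟩
  · intro hx
    refine span_le_of_forall_mem (hW.trans h) (fun s hs => ?_) hx
    obtain ⟨p, _, hs'⟩ := Set.mem_iUnion₂.mp hs
    obtain ⟨y, rfl⟩ := Set.mem_iUnion.mp hs'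
    rw [← res_res h hW]
    exact P.res_mem hW (hTP p y y.2)

/-- The extension step across one affine open. -/
theorem exists_step {U V : X.Opens} (hV : IsAffineOpen V) (hUV : IsCompact ((U ⊓ V : X.Opens) : Set X))
    {P : Sub F} (hP : FG U P) : ∃ Q : Sub F, FG (U ⊔ V) Q ∧ AgreeOn U Q P := by
  obtain ⟨S, hS, e⟩ := exists_finite_generators hV inf_le_right hUV (hP.mono inf_le_left)
  obtain ⟨Q, hQ⟩ := exists_glueSub (fun b : Bool => cond b U V)
    (fun b => cond b P (locSpan S)) (by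
      rintro (_ | _) (_ | _)
      · exact fun _ _ => rfl
      · exact e.symm.mono (inf_comm _ _).le
      · exact e
      · exact fun _ _ => rfl)
  exact ⟨Q, (hP.of_agreeOn (hQ true)).sup ((fg_locSpan hS).of_agreeOn (hQ false)), hQ true⟩

/-- Extension by Zorn's lemma, given a step for every admissible proper open. -/
theorem exists_extension (C : X.Opens → Prop)
    (hC : ∀ c : Set X.Opens, c.Nonempty → IsChain (· ≤ ·) c → (∀ W ∈ c, C W) → C (sSup c))
    (hstep : ∀ W, C W → W ≠ ⊤ → ∃ V : X.Opens, IsAffineOpen V ∧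
      IsCompact ((W ⊓ V : X.Opens) : Set X) ∧ C (W ⊔ V) ∧ ¬ V ≤ W)
    {U : X.Opens} (hCU : C U) {P : Sub F} (hP : FG U P) :
    ∃ Q : Sub F, FG ⊤ Q ∧ AgreeOn U Q P := by
  let α := {a : X.Opens × Sub F // C a.1 ∧ U ≤ a.1 ∧ FG a.1 a.2 ∧ AgreeOn U a.2 P}
  let r : α → α → Prop := fun a b => a.1.1 ≤ b.1.1 ∧ AgreeOn a.1.1 b.1.2 a.1.2
  have : Nonempty α := ⟨⟨(U, P), hCU, le_rfl, hP, fun _ _ => rfl⟩⟩
  obtain ⟨⟨⟨W, Q⟩, hCW, hUW, hQ, hQP⟩, hmax⟩ :=
    exists_maximal_of_nonempty_chains_bounded (r := r) (fun c hc hne => by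
      have hcomp : ∀ a ∈ c, ∀ b ∈ c, AgreeOn (a.1.1 ⊓ b.1.1) a.1.2 b.1.2 := fun a ha b hb => by
        rcases eq_or_ne a b with rfl | hab
        · exact fun _ _ => rfl
        · rcases hc ha hb hab with h | h
          · exact (h.2.mono inf_le_left).symm
          · exact h.2.mono inf_le_right
      obtain ⟨Q, hQ⟩ := exists_glueSub (fun a : c => a.1.1.1) (fun a => a.1.1.2)
        (fun a b => hcomp a.1 a.2 b.1 b.2)
      let W : X.Opens := sSup ((fun a : α => a.1.1) '' c)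
      have hle : ∀ a ∈ c, a.1.1 ≤ W := fun a ha => le_sSup ⟨a, ha, rfl⟩
      have hCW : C W := hC _ (hne.image _)
        (fun _ hx _ hy hxy => by
          obtain ⟨a, ha, rfl⟩ := hx
          obtain ⟨b, hb, rfl⟩ := hy
          exact (hc ha hb (fun h => hxy (by rw [h]))).imp And.left And.left) (by rintro _ ⟨a, -, rfl⟩; exact a.2.1)
      obtain ⟨a₀, ha₀⟩ := hne
      refine ⟨⟨(W, Q), hCW, a₀.2.2.1.trans (hle a₀ ha₀), fun p hp => ?_, ?_⟩,
        fun a ha => ⟨hle a ha, hQ ⟨a, ha⟩⟩⟩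
      · obtain ⟨_, ⟨a, ha, rfl⟩, hpa⟩ := Opens.mem_sSup.mp hp
        obtain ⟨V, S, hV, hpV, hS, e⟩ := (a.2.2.2.1.of_agreeOn (hQ ⟨a, ha⟩)) p hpa
        exact ⟨V, S, hV.trans (hle a ha), hpV, hS, e⟩
      · exact ((hQ ⟨a₀, ha₀⟩).mono a₀.2.2.1).trans a₀.2.2.2.2)
      (fun h h' => ⟨h.1.trans h'.1, (h'.2.mono h.1).trans h.2⟩)
  rcases eq_or_ne W ⊤ with rfl | hW
  · exact ⟨Q, hQ, hQP⟩
  obtain ⟨V, hV, hWV, hC', hVW⟩ := hstep W hCW hW
  obtain ⟨Q', hQ', hQ'Q⟩ := exists_step hV hWV hQ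
  have := hmax ⟨(W ⊔ V, Q'), hC', hUW.trans le_sup_left, hQ', (hQ'Q.mono hUW).trans hQP⟩
    ⟨le_sup_left, hQ'Q⟩
  exact absurd (le_sup_right.trans this.1) hVW

theorem exists_extension_noetherian
    (hX : ∀ x : X, ∃ U : X.Opens, x ∈ U ∧ NoetherianSpace (U : Set X))
    {U : X.Opens} {P : Sub F} (hP : FG U P) : ∃ Q : Sub F, FG ⊤ Q ∧ AgreeOn U Q P := by
  refine exists_extension (fun _ => True) (fun _ _ _ _ => trivial) (fun W _ hW => ?_) trivial hP
  obtain ⟨p, hp⟩ : ∃ p, p ∉ W := by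
    by_contra h
    exact hW (top_le_iff.mp fun p _ => by_contra fun hp => h ⟨p, hp⟩)
  obtain ⟨N, hpN, hN⟩ := hX p
  obtain ⟨_, ⟨V, hV, rfl⟩, hpV, hVN⟩ := X.isBasis_affineOpens.exists_subset_of_mem_open hpN N.2
  refine ⟨V, hV, ?_, trivial, fun h => hp (h hpV)⟩
  have hsub : ((W ⊓ V : X.Opens) : Set X) ⊆ N := fun x hx => hVN hx.2
  have h1 := (@NoetherianSpace.isCompact (N : Set X) _ hN
    (Subtype.val ⁻¹' ((W ⊓ V : X.Opens) : Set X))).image continuous_subtype_val
  rwa [Subtype.image_preimage_coe, Set.inter_eq_right.mpr hsub] at h1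

theorem exists_extension_qcqs [CompactSpace X] [QuasiSeparatedSpace X] {U : X.Opens}
    (hU : IsCompact (U : Set X)) {P : Sub F} (hP : FG U P) :
    ∃ Q : Sub F, FG ⊤ Q ∧ AgreeOn U Q P := by
  have : ∀ T : X.Opens, IsCompact (T : Set X) → ∃ Q : Sub F, FG (U ⊔ T) Q ∧ AgreeOn U Q P := by
    intro T hT
    refine compact_open_induction_on
      (P := fun T => ∃ Q : Sub F, FG (U ⊔ T) Q ∧ AgreeOn U Q P) T hT
      ⟨P, by rwa [sup_bot_eq], fun _ _ => rfl⟩ ?_
    · rintro S hS V ⟨Q, hQ, hQP⟩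
      have hc : IsCompact (((U ⊔ S) ⊓ V.1 : X.Opens) : Set X) := by
        have hsub : IsCompact ((U ⊔ S : X.Opens) : Set X) := by
          rw [Opens.coe_sup]; exact hU.union hS
        rw [Opens.coe_inf]
        exact QuasiSeparatedSpace.inter_isCompact _ _ (U ⊔ S).2 hsub V.1.2 V.2.isCompact
      obtain ⟨Q', hQ', hQ'Q⟩ := exists_step V.2 hc hQ
      exact ⟨Q', by rwa [← sup_assoc], (hQ'Q.mono le_sup_left).trans hQP⟩
  obtain ⟨Q, hQ, hQP⟩ := this ⊤ (by rw [Opens.coe_top]; exact isCompact_univ)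
  exact ⟨Q, by rwa [sup_top_eq] at hQ, hQP⟩

theorem exists_extension_wellOrdered {L : Type v} [LinearOrder L] [WellFoundedLT L]
    (V : L → X.Opens) (hV : ∀ l, IsAffineOpen (V l)) (hcov : ⨆ l, V l = ⊤)
    (hW : ∀ l, IsCompact ((V l : Set X) ∩ ⋃ m ∈ Set.Iio l, (V m : Set X)))
    {U : X.Opens} [QuasiCompact U.ι] {P : Sub F} (hP : FG U P) :
    ∃ Q : Sub F, FG ⊤ Q ∧ AgreeOn U Q P := by
  let C : X.Opens → Prop := fun W => ∃ s : Set L, IsLowerSet s ∧ W = U ⊔ ⨆ m ∈ s, V m
  refine exists_extension C (fun c hne _ hc => ?_) (fun W ⟨s, hs, hWs⟩ hWtop => ?_)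
    ⟨∅, isLowerSet_empty, by simp⟩ hP
  · choose s hs hWs using hc
    refine ⟨⋃ W, ⋃ hW : W ∈ c, s W hW, isLowerSet_iUnion₂ fun W hW => hs W hW, ?_⟩
    refine le_antisymm (sSup_le fun W hW => ?_) (sup_le ?_ (iSup₂_le fun m hm => ?_))
    · rw [hWs W hW]
      refine sup_le le_sup_left ((iSup₂_le fun m hm => ?_).trans le_sup_right)
      exact le_iSup₂_of_le m (Set.mem_iUnion₂.mpr ⟨W, hW, hm⟩) le_rfl
    · obtain ⟨W, hW⟩ := hne
      exact ((hWs W hW).ge.trans' le_sup_left).trans (le_sSup hW)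
    · obtain ⟨W, hW, hm'⟩ := Set.mem_iUnion₂.mp hm
      exact ((hWs W hW).ge.trans' (le_sup_of_le_right (le_iSup₂_of_le m hm' le_rfl))).trans
        (le_sSup hW)
  · have hex : {m | ¬ V m ≤ W}.Nonempty := by
      by_contra h
      refine hWtop (top_le_iff.mp (hcov ▸ iSup_le fun m => ?_))
      by_contra hm
      exact h ⟨m, hm⟩
    obtain ⟨l, hl, hlmin⟩ := wellFounded_lt.has_min {m | ¬ V m ≤ W} hex
    have hlt : ∀ m < l, V m ≤ W := fun m hm => by_contra fun h => hlmin m h hm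
    have hWeq : W = U ⊔ ⨆ m ∈ Set.Iio l, V m := by
      refine le_antisymm ?_ (sup_le (hWs ▸ le_sup_left) (iSup₂_le fun m hm => hlt m hm))
      rw [hWs]
      refine sup_le le_sup_left ((iSup₂_le fun m hm => ?_).trans le_sup_right)
      have hml : m < l := by
        by_contra h
        refine hl (hWs ▸ le_sup_of_le_right (le_iSup₂_of_le l (hs (not_lt.mp h) hm) le_rfl))
      exact le_iSup₂_of_le (f := fun m _ => V m) m hml le_rfl
    refine ⟨V l, hV l, ?_, ⟨Set.Iic l, isLowerSet_Iic l, ?_⟩, hl⟩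
    · have h1 : IsCompact ((U ⊓ V l : X.Opens) : Set X) := by
        have := (U.ι.isCompact_preimage (hV l).isCompact).image U.ι.continuous
        rwa [Scheme.Hom.coe_preimage, Set.image_preimage_eq_inter_range, Scheme.Opens.range_ι,
          Set.inter_comm, ← Opens.coe_inf] at this
      have h2 := h1.union (hW l)
      convert h2 using 1
      rw [hWeq]
      ext x
      simp only [Opens.coe_inf, Opens.coe_sup, Opens.coe_iSup, Set.mem_inter_iff, Set.mem_union]
      tauto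
    · refine le_antisymm (sup_le ?_ ?_) (sup_le (le_sup_of_le_left (hWs ▸ le_sup_left))
        (iSup₂_le fun m hm => ?_))
      · rw [hWeq]
        exact sup_le le_sup_left ((iSup₂_le fun m hm =>
          le_iSup₂_of_le (f := fun m _ => V m) m hm.le le_rfl).trans le_sup_right)
      · exact le_sup_of_le_right (le_iSup₂_of_le (f := fun m _ => V m) l le_rfl le_rfl)
      · rcases eq_or_lt_of_le (show m ≤ l from hm) with rfl | h
        · exact le_sup_right
        · exact le_sup_of_le_left (hlt m h)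

end Groth.Agent.SubMod72
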