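import Groth.Agent.SubMod72.Sub
import Groth.Agent.QC70.Coherent
import Mathlib.Algebra.Category.ModuleCat.Presheaf.Submodule
import Mathlib.Topology.Sheaves.SheafCondition.UniqueGluing

/-! Subsheaves as objects, and subsheaves attached to monomorphisms into a restriction. -/

set_option autoImplicit false
set_option backward.isDefEq.respectTransparency.types false

noncomputable section

universe u

open CategoryTheory Limits AlgebraicGeometry TopologicalSpace Opposite
open Groth.Agent.QC70

namespace Groth.Agent.SubMod72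

variable {X : Scheme.{u}} {F : X.Modules}

/-- The presheaf submodule of a subsheaf. -/
def presub (P : Sub F) : PresheafOfModules.Submodule F.val where
  obj W := P.carrier W.unop
  map {_ _} f := fun _ hx => P.res_mem f.unop.le hx

/-- The module attached to a subsheaf. -/
def toMod (P : Sub F) : X.Modules where
  val := (presub P).toPresheafOfModules
  isSheaf := by
    show TopCat.Presheaf.IsSheaf (presub P).toPresheafOfModules.presheaf
    rw [TopCat.Presheaf.isSheaf_iff_isSheafUniqueGluing]
    intro ι U sf hsf
    obtain ⟨t, ht, huniq⟩ := TopCat.Sheaf.existsUnique_gluing ⟨_, F.isSheaf⟩ U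
      (fun i => (show P.carrier (U i) from sf i).1)
      (fun i j => congrArg Subtype.val (hsf i j))
    have htP : (t : Γ(F, iSup U)) ∈ P.carrier (iSup U) := by
      refine P.local_mem _ fun p hp => ?_
      obtain ⟨i, hi⟩ := Opens.mem_iSup.mp hp
      refine ⟨U i, le_iSup U i, hi, ?_⟩
      have : res F (le_iSup U i) t = (show P.carrier (U i) from sf i).1 := ht i
      rw [this]
      exact (show P.carrier (U i) from sf i).2
    refine ⟨(⟨t, htP⟩ : P.carrier (iSup U)), fun i => Subtype.ext (ht i), fun s hs => ?_⟩
    exact Subtype.ext (huniq _ fun i => congrArg Subtype.val (hs i))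

/-- The inclusion. -/
def toModι (P : Sub F) : toMod P ⟶ F := ⟨(presub P).ι⟩

theorem toModι_app (P : Sub F) {W : X.Opens} (x : P.carrier W) :
    (toModι P).app W (show Γ(toMod P, W) from x) = x.1 := rfl

instance mono_toModι (P : Sub F) : Mono (toModι P) :=
  mono_of_app_injective _ fun _ _ _ h => Subtype.val_injective h

theorem mem_iff_exists (P : Sub F) {W : X.Opens} (x : Γ(F, W)) :
    x ∈ P.carrier W ↔ ∃ y : Γ(toMod P, W), (toModι P).app W y = x :=
  ⟨fun h => ⟨(⟨x, h⟩ : P.carrier W), rfl⟩, by rintro ⟨y, rfl⟩; exact (y : P.carrier W).2⟩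

theorem coe_res (P : Sub F) {V W : X.Opens} (h : V ≤ W) (x : Γ(toMod P, W)) :
    (toModι P).app V (res (toMod P) h x) = res F h ((toModι P).app W x) :=
  app_res _ h x

variable [F.IsQuasicoherent]

theorem isLocAt_toMod (P : Sub F) {D : X.Opens} (hD : IsAffineOpen D) {S : Set Γ(F, D)}
    (e : AgreeOn D P (locSpan S)) : IsLocAt (toMod P) D where
  exists_of g s := by
    have hs : (toModι P).app _ s ∈ P.carrier (X.basicOpen g) := (mem_iff_exists P _).mpr ⟨s, rfl⟩
    obtain ⟨k, w, hw, e'⟩ := exists_res_eq_pow_smul hD g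
      (mem_span_of_mem (hD.basicOpen g) (X.basicOpen_le g) e hs)
    have hwP : w ∈ P.carrier D := by
      rw [e D le_rfl]
      refine mem_locSpan le_rfl ?_
      have := res_mem_span (le_refl D) hw
      rwa [res_self] at this
    obtain ⟨w', rfl⟩ := (mem_iff_exists P w).mp hwP
    refine ⟨k, w', app_injective_of_mono (toModι P) _ ?_⟩
    rw [coe_res, e', Scheme.Modules.Hom.app_smul]
  eq_zero_of g t ht := by
    obtain ⟨n, hn⟩ := (isLocAt_of_isQuasicoherent F hD).eq_zero_of g ((toModι P).app D t) (by
      rw [← coe_res, ht, map_zero])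
    refine ⟨n, app_injective_of_mono (toModι P) _ ?_⟩
    rw [Scheme.Modules.Hom.app_smul, hn, map_zero]

theorem finite_sections_toMod (P : Sub F) {D : X.Opens} (hD : IsAffineOpen D) {S : Set Γ(F, D)}
    (hS : S.Finite) (e : AgreeOn D P (locSpan S)) :
    Module.Finite Γ(X, D) Γ(toMod P, D) := by
  have hle : LinearMap.range (appLinear (toModι P) D) = Submodule.span Γ(X, D) S := by
    refine le_antisymm ?_ (Submodule.span_le.mpr fun s hs => ?_)
    · rintro _ ⟨y, rfl⟩
      have := mem_span_of_mem hD le_rfl e (x := (toModι P).app D y)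
        ((mem_iff_exists P _).mpr ⟨y, rfl⟩)
      rwa [show res F (le_refl D) '' S = S by simp [res]] at this
    · have : s ∈ P.carrier D := by
        rw [e D le_rfl]
        exact (res_self s) ▸ self_mem_locSpan le_rfl hs
      obtain ⟨y, hy⟩ := (mem_iff_exists P s).mp this
      exact ⟨y, hy⟩
  have : Module.Finite Γ(X, D) (LinearMap.range (appLinear (toModι P) D)) := by
    rw [hle]
    exact Module.Finite.span_of_finite _ hS
  exact Module.Finite.equiv (LinearEquiv.ofInjective (appLinear (toModι P) D)
    (app_injective_of_mono (toModι P) D)).symm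

theorem isQuasicoherent_isFiniteType_toMod {P : Sub F} (hP : FG ⊤ P) :
    (toMod P).IsQuasicoherent ∧ (toMod P).IsFiniteType := by
  choose D S hD hpD _ hS e using fun p : X => hP.exists_affine (p := p) (W := ⊤) trivial trivial
  have hcov : IsOpenCover D :=
    IsOpenCover.mk (top_le_iff.mp fun p _ => Opens.mem_iSup.mpr ⟨p, hpD p⟩)
  have h1 : (toMod P).IsQuasicoherent := isQuasicoherent_of_isLocAt _ D hcov hD
    fun p => isLocAt_toMod P (hD p) (e p)
  exact ⟨h1, isFiniteType_of_finite_sections _ D hcov hD
    fun p => finite_sections_toMod P (hD p) (hS p) (e p)⟩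

end Groth.Agent.SubMod72
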