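import Groth.Agent.QC70.FiniteType
import Groth.Agent.QCqs72.Basic

/-!
Subsheaves of modules given by families of sections; the ones locally generated by finitely many
sections.
-/

set_option autoImplicit false
set_option backward.isDefEq.respectTransparency.types false

noncomputable section

universe u

open CategoryTheory AlgebraicGeometry TopologicalSpace Opposite
open Groth.Agent.QC70

namespace Groth.Agent.SubMod72

variable {X : Scheme.{u}} {F : X.Modules}

theorem res_mem_span {U V : X.Opens} (h : V ≤ U) {S : Set Γ(F, U)} {x : Γ(F, U)}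
    (hx : x ∈ Submodule.span Γ(X, U) S) :
    res F h x ∈ Submodule.span Γ(X, V) (res F h '' S) := by
  induction hx using Submodule.span_induction with
  | mem y hy => exact Submodule.subset_span ⟨y, hy, rfl⟩
  | zero => rw [res_zero]; exact zero_mem _
  | add y z _ _ hy hz => rw [res_add]; exact add_mem hy hz
  | smul a y _ hy => rw [res_smul]; exact Submodule.smul_mem _ _ hy

theorem image_res_res {U V W : X.Opens} (h : V ≤ U) (h' : W ≤ V) (S : Set Γ(F, U)) :
    res F h' '' (res F h '' S) = res F (h'.trans h) '' S := by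
  rw [Set.image_image]; simp only [res_res]

/-- A subsheaf of submodules. -/
@[ext]
structure Sub (F : X.Modules) where
  carrier : ∀ W : X.Opens, Submodule Γ(X, W) Γ(F, W)
  res_mem : ∀ {V W : X.Opens} (h : V ≤ W) {x : Γ(F, W)}, x ∈ carrier W → res F h x ∈ carrier V
  local_mem : ∀ {W : X.Opens} (x : Γ(F, W)),
    (∀ p ∈ W, ∃ (V : X.Opens) (h : V ≤ W), p ∈ V ∧ res F h x ∈ carrier V) → x ∈ carrier W

/-- Two subsheaves agree on an open. -/
def AgreeOn (U : X.Opens) (P Q : Sub F) : Prop :=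
  ∀ W ≤ U, P.carrier W = Q.carrier W

theorem AgreeOn.mono {U V : X.Opens} {P Q : Sub F} (h : AgreeOn U P Q) (hV : V ≤ U) :
    AgreeOn V P Q := fun W hW => h W (hW.trans hV)

theorem AgreeOn.symm {U : X.Opens} {P Q : Sub F} (h : AgreeOn U P Q) : AgreeOn U Q P :=
  fun W hW => (h W hW).symm

theorem AgreeOn.trans {U : X.Opens} {P Q R : Sub F} (h : AgreeOn U P Q) (h' : AgreeOn U Q R) :
    AgreeOn U P R := fun W hW => (h W hW).trans (h' W hW)

/-- The subsheaf generated on `V` by some sections over `V` (no condition outside `V`). -/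
def locSpan {V : X.Opens} (S : Set Γ(F, V)) : Sub F where
  carrier W :=
    { carrier := {x | ∀ p ∈ W, p ∈ V → ∃ (W' : X.Opens) (h : W' ≤ W) (hV : W' ≤ V), p ∈ W' ∧
        res F h x ∈ Submodule.span Γ(X, W') (res F hV '' S)}
      add_mem' := by
        intro x y hx hy p hp hpV
        obtain ⟨W₁, h₁, hV₁, hp₁, e₁⟩ := hx p hp hpV
        obtain ⟨W₂, h₂, hV₂, hp₂, e₂⟩ := hy p hp hpV
        refine ⟨W₁ ⊓ W₂, inf_le_left.trans h₁, inf_le_left.trans hV₁, ⟨hp₁, hp₂⟩, ?_⟩
        have a := res_mem_span (inf_le_left : W₁ ⊓ W₂ ≤ W₁) e₁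
        have b := res_mem_span (inf_le_right : W₁ ⊓ W₂ ≤ W₂) e₂
        rw [res_res, image_res_res] at a b
        rw [res_add]
        exact add_mem a b
      zero_mem' := fun p hp hpV => ⟨W ⊓ V, inf_le_left, inf_le_right, ⟨hp, hpV⟩, by
        rw [res_zero]; exact zero_mem _⟩
      smul_mem' := fun a x hx p hp hpV => by
        obtain ⟨W', h, hV, hp', e⟩ := hx p hp hpV
        exact ⟨W', h, hV, hp', by rw [res_smul]; exact Submodule.smul_mem _ _ e⟩ }
  res_mem {V' W} h x hx p hp hpV := by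
    obtain ⟨W', h', hV, hp', e⟩ := hx p (h hp) hpV
    refine ⟨V' ⊓ W', inf_le_left, inf_le_right.trans hV, ⟨hp, hp'⟩, ?_⟩
    have a := res_mem_span (inf_le_right : V' ⊓ W' ≤ W') e
    rw [res_res, image_res_res] at a
    rw [res_res]
    exact a
  local_mem {W} x hx p hp hpV := by
    obtain ⟨V', h, hp', e⟩ := hx p hp
    obtain ⟨W', h', hV, hp'', e'⟩ := e p hp' hpV
    exact ⟨W', h'.trans h, hV, hp'', by rw [← res_res h h']; exact e'⟩

theorem mem_locSpan {V W : X.Opens} {S : Set Γ(F, V)} {x : Γ(F, W)} (h : W ≤ V)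
    (hx : x ∈ Submodule.span Γ(X, W) (res F h '' S)) : x ∈ (locSpan S).carrier W :=
  fun _ hp _ => ⟨W, le_rfl, h, hp, by rw [res_self]; exact hx⟩

theorem self_mem_locSpan {V W : X.Opens} {S : Set Γ(F, V)} {x : Γ(F, V)} (h : W ≤ V)
    (hx : x ∈ S) : res F h x ∈ (locSpan S).carrier W :=
  mem_locSpan h (Submodule.subset_span ⟨x, hx, rfl⟩)

theorem locSpan_res {U V : X.Opens} (h : V ≤ U) (S : Set Γ(F, U)) :
    AgreeOn V (locSpan S) (locSpan (res F h '' S)) := by
  intro W hW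
  ext x
  constructor
  · intro hx p hp hpV
    obtain ⟨W', h₁, h₂, hp', e⟩ := hx p hp (h hpV)
    exact ⟨W', h₁, h₁.trans hW, hp', by rw [image_res_res]; exact e⟩
  · intro hx p hp _
    obtain ⟨W', h₁, h₂, hp', e⟩ := hx p hp (hW hp)
    exact ⟨W', h₁, h₂.trans h, hp', by rw [image_res_res] at e; exact e⟩

theorem span_le_of_forall_mem {V W : X.Opens} (h : W ≤ V) {S : Set Γ(F, V)} {P : Sub F}
    (hS : ∀ s ∈ S, res F h s ∈ P.carrier W) : (locSpan S).carrier W ≤ P.carrier W := by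
  intro x hx
  refine P.local_mem x fun p hp => ?_
  obtain ⟨W', h₁, h₂, hp', e⟩ := hx p hp (h hp)
  refine ⟨W', h₁, hp', (Submodule.span_le.mpr ?_) e⟩
  rintro _ ⟨s, hs, rfl⟩
  rw [← res_res h h₁ s]
  exact P.res_mem h₁ (hS s hs)

/-- `P` is locally generated on `U` by finitely many sections. -/
def FG (U : X.Opens) (P : Sub F) : Prop :=
  ∀ p ∈ U, ∃ (V : X.Opens) (S : Set Γ(F, V)), V ≤ U ∧ p ∈ V ∧ S.Finite ∧ AgreeOn V P (locSpan S)

theorem FG.of_agreeOn {U : X.Opens} {P Q : Sub F} (hP : FG U P) (h : AgreeOn U Q P) : FG U Q := by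
  intro p hp
  obtain ⟨V, S, hV, hpV, hS, e⟩ := hP p hp
  exact ⟨V, S, hV, hpV, hS, (h.mono hV).trans e⟩

theorem FG.mono {U V : X.Opens} {P : Sub F} (hP : FG U P) (h : V ≤ U) : FG V P := by
  intro p hp
  obtain ⟨V', S, hV', hpV', hS, e⟩ := hP p (h hp)
  exact ⟨V' ⊓ V, _, inf_le_right, ⟨hpV', hp⟩, hS.image _,
    (e.mono inf_le_left).trans (locSpan_res inf_le_left S)⟩

theorem FG.sup {U V : X.Opens} {P : Sub F} (hU : FG U P) (hV : FG V P) : FG (U ⊔ V) P := by
  rintro p (hp | hp)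
  · obtain ⟨W, S, hW, hpW, hS, e⟩ := hU p hp
    exact ⟨W, S, hW.trans le_sup_left, hpW, hS, e⟩
  · obtain ⟨W, S, hW, hpW, hS, e⟩ := hV p hp
    exact ⟨W, S, hW.trans le_sup_right, hpW, hS, e⟩

theorem fg_locSpan {V : X.Opens} {S : Set Γ(F, V)} (hS : S.Finite) : FG V (locSpan S) :=
  fun _ hp => ⟨V, S, le_rfl, hp, hS, fun _ _ => rfl⟩

theorem FG.exists_affine {U : X.Opens} {P : Sub F} (hP : FG U P) {W : X.Opens} {p : X} (hp : p ∈ U)
    (hpW : p ∈ W) : ∃ (D : X.Opens) (S : Set Γ(F, D)), IsAffineOpen D ∧ p ∈ D ∧ D ≤ U ⊓ W ∧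
      S.Finite ∧ AgreeOn D P (locSpan S) := by
  obtain ⟨V, S, hV, hpV, hS, e⟩ := hP p hp
  obtain ⟨_, ⟨D, hD, rfl⟩, hpD, hDle⟩ :=
    X.isBasis_affineOpens.exists_subset_of_mem_open (show p ∈ V ⊓ W from ⟨hpV, hpW⟩) (V ⊓ W).2
  have hDle' : D ≤ V ⊓ W := hDle
  exact ⟨D, _, hD, hpD, hDle'.trans (inf_le_inf_right _ hV), hS.image _,
    (e.mono (hDle'.trans inf_le_left)).trans (locSpan_res (hDle'.trans inf_le_left) S)⟩

variable [F.IsQuasicoherent]

omit [F.IsQuasicoherent] in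
/-- Sections of a span over `D(g)` come from sections of the span over an affine `D`. -/
theorem exists_res_eq_pow_smul {D : X.Opens} (hD : IsAffineOpen D) (g : Γ(X, D))
    {S : Set Γ(F, D)} {z : Γ(F, X.basicOpen g)}
    (hz : z ∈ Submodule.span Γ(X, X.basicOpen g) (res F (X.basicOpen_le g) '' S)) :
    ∃ (k : ℕ) (w : Γ(F, D)), w ∈ Submodule.span Γ(X, D) S ∧
      res F (X.basicOpen_le g) w = resO X (X.basicOpen_le g) g ^ k • z := by
  induction hz using Submodule.span_induction with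
  | mem y hy =>
    obtain ⟨s, hs, rfl⟩ := hy
    exact ⟨0, s, Submodule.subset_span hs, by rw [pow_zero, one_smul]⟩
  | zero => exact ⟨0, 0, zero_mem _, by rw [res_zero, smul_zero]⟩
  | add y z _ _ hy hz =>
    obtain ⟨k, w, hw, e⟩ := hy
    obtain ⟨l, v, hv, e'⟩ := hz
    refine ⟨k + l, g ^ l • w + g ^ k • v,
      add_mem (Submodule.smul_mem _ _ hw) (Submodule.smul_mem _ _ hv), ?_⟩
    rw [res_add, res_pow_smul, res_pow_smul, e, e', ← pow_smul_add, ← pow_smul_add, smul_add,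
      add_comm l k]
  | smul a y _ hy =>
    obtain ⟨k, w, hw, e⟩ := hy
    obtain ⟨m, c, hc⟩ := (isLocAt_unit hD).exists_of g (toUnit a)
    refine ⟨m + k, (show Γ(X, D) from c) • w, Submodule.smul_mem _ _ hw, ?_⟩
    have hc' : resO X (X.basicOpen_le g) (show Γ(X, D) from c) =
        resO X (X.basicOpen_le g) g ^ m * a := hc
    rw [res_smul, e, hc', smul_smul, smul_smul, pow_add]
    congr 1
    ring

theorem exists_pow_smul_mem_span {D : X.Opens} (hD : IsAffineOpen D) (g : Γ(X, D))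
    {S : Set Γ(F, D)} {y : Γ(F, D)}
    (hy : res F (X.basicOpen_le g) y ∈
      Submodule.span Γ(X, X.basicOpen g) (res F (X.basicOpen_le g) '' S)) :
    ∃ k : ℕ, g ^ k • y ∈ Submodule.span Γ(X, D) S := by
  obtain ⟨k, w, hw, e⟩ := exists_res_eq_pow_smul hD g hy
  obtain ⟨m, hm⟩ := (isLocAt_of_isQuasicoherent F hD).eq_zero_of g (g ^ k • y - w) (by
    rw [res_sub, res_pow_smul, e, sub_self])
  refine ⟨m + k, ?_⟩
  rw [smul_sub, sub_eq_zero, ← pow_smul_add] at hm
  rw [hm]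
  exact Submodule.smul_mem _ _ hw

/-- Over an affine open, local membership in a span is membership in the span. -/
theorem mem_span_of_mem_locSpan {D : X.Opens} (hD : IsAffineOpen D) {S : Set Γ(F, D)}
    {x : Γ(F, D)} (hx : x ∈ (locSpan S).carrier D) : x ∈ Submodule.span Γ(X, D) S := by
  let I : Ideal Γ(X, D) :=
    { carrier := {r | r • x ∈ Submodule.span Γ(X, D) S}
      add_mem' := fun {a b} ha hb => by
        simp only [Set.mem_ofPred_eq] at ha hb ⊢; rw [add_smul]; exact add_mem ha hb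
      zero_mem' := by simp only [Set.mem_ofPred_eq, zero_smul]; exact zero_mem _
      smul_mem' := fun c a ha => by
        simp only [Set.mem_ofPred_eq] at ha ⊢; rw [smul_eq_mul, mul_smul]; exact Submodule.smul_mem _ _ ha }
  have key : ∀ p : D, ∃ g : Γ(X, D), (p : X) ∈ X.basicOpen g ∧ g ∈ I.radical := by
    intro p
    obtain ⟨W', h₁, h₂, hp, e⟩ := hx p p.2 p.2
    obtain ⟨g, hg, hpg⟩ := hD.exists_basicOpen_le ⟨(p : X), hp⟩ p.2
    have a := res_mem_span hg e
    rw [res_res, image_res_res] at a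
    obtain ⟨k, hk⟩ := exists_pow_smul_mem_span hD g a
    exact ⟨g, hpg, k, hk⟩
  choose g hpg hg using key
  have hspan : Ideal.span (Set.range g) = ⊤ :=
    (hD.iSup_basicOpen_eq_self_iff (s := Set.range g)).mp <| le_antisymm
      (iSup_le fun r => X.basicOpen_le _)
      fun q hq => Opens.mem_iSup.mpr ⟨⟨g ⟨q, hq⟩, ⟨q, hq⟩, rfl⟩, hpg ⟨q, hq⟩⟩
  have hI : I = ⊤ := by
    rw [← Ideal.radical_eq_top]
    refine top_le_iff.mp (hspan ▸ Ideal.span_le.mpr ?_)
    rintro _ ⟨p, rfl⟩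
    exact hg p
  have h1 : (1 : Γ(X, D)) • x ∈ Submodule.span Γ(X, D) S := by
    show (1 : Γ(X, D)) ∈ I
    rw [hI]; exact Submodule.mem_top
  rwa [one_smul] at h1

theorem mem_span_of_mem {D W : X.Opens} (hW : IsAffineOpen W) (h : W ≤ D) {P : Sub F}
    {S : Set Γ(F, D)} (hP : AgreeOn D P (locSpan S)) {x : Γ(F, W)} (hx : x ∈ P.carrier W) :
    x ∈ Submodule.span Γ(X, W) (res F h '' S) := by
  refine mem_span_of_mem_locSpan hW ?_
  rw [← locSpan_res h S W le_rfl, ← hP W h]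
  exact hx

end Groth.Agent.SubMod72
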